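import Groth.Prelude.Def_SGA1t
import Groth.Agent.H9Ram.GaloisCoverResidue
import Groth.Agent.H9Ram.TameGalois

/-!
# Principal covers of order prime to the residue characteristics are tame
-/

set_option autoImplicit false
set_option linter.style.haveILetI false
set_option linter.unusedSectionVars false
set_option backward.isDefEq.respectTransparency false
set_option backward.isDefEq.respectTransparency.types false

universe u

open CategoryTheory CategoryTheory.Limits AlgebraicGeometry Opposite IsLocalRing

namespace Groth.Agent.H15Site.TamePrincipal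

/-- A point at which the local ring is a discrete valuation ring, and a proper generization: the residue
field of the generization is the fraction field. -/
theorem isFractionRing_residueField {Y : Scheme.{u}} (y u : Y) (h : u ⤳ y) (hne : u ≠ y)
    [IsDomain (Y.presheaf.stalk y)] [IsDiscreteValuationRing (Y.presheaf.stalk y)] :
    letI := ((Y.residue u).hom.comp (Y.presheaf.stalkSpecializes h).hom).toAlgebra
    IsFractionRing (Y.presheaf.stalk y) (Y.residueField u) := by
  let ψ := (Y.residue u).hom.comp (Y.presheaf.stalkSpecializes h).hom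
  letI := ψ.toAlgebra
  obtain ⟨V, hV, hy, -⟩ := exists_isAffineOpen_mem_and_subset (X := Y) (x := y) (U := ⊤) trivial
  have hu : u ∈ V := h.mem_open V.2 hy
  have hψ : ∀ r : Γ(Y, V), ψ (Y.presheaf.germ V y hy r) = (Y.residue u).hom (Y.presheaf.germ V u hu r) :=
    fun r => congrArg (Y.residue u).hom (Y.presheaf.germ_stalkSpecializes_apply hy h r)
  haveI hprime : (RingHom.ker ψ).IsPrime := RingHom.ker_isPrime ψ
  have hker : RingHom.ker ψ = ⊥ := by
    by_contra h0
    have hmax : RingHom.ker ψ = maximalIdeal (Y.presheaf.stalk y) :=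
      eq_maximalIdeal (Ideal.IsPrime.isMaximal hprime h0)
    refine hne (congrArg Subtype.val (show (⟨u, hu⟩ : V) = ⟨y, hy⟩ from ?_))
    have hinj : Function.Injective fun x : V => (hV.primeIdealOf x).asIdeal := fun a b e =>
      Subtype.ext (((hV.fromSpec_primeIdealOf a).symm.trans
        (congrArg hV.fromSpec.base (PrimeSpectrum.ext e))).trans (hV.fromSpec_primeIdealOf b))
    refine hinj (Ideal.ext fun r => ?_)
    letI := Y.presheaf.algebra_section_stalk (⟨y, hy⟩ : V)
    haveI := hV.isLocalization_stalk ⟨y, hy⟩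
    have h1 := IsLocalization.AtPrime.to_map_mem_maximal_iff (Y.presheaf.stalk y) (hV.primeIdealOf ⟨y, hy⟩).asIdeal r
    letI := Y.presheaf.algebra_section_stalk (⟨u, hu⟩ : V)
    haveI := hV.isLocalization_stalk ⟨u, hu⟩
    have h2 := IsLocalization.AtPrime.to_map_mem_maximal_iff (Y.presheaf.stalk u) (hV.primeIdealOf ⟨u, hu⟩).asIdeal r
    have h3 : Y.presheaf.germ V y hy r ∈ RingHom.ker ψ ↔ Y.presheaf.germ V u hu r ∈ maximalIdeal (Y.presheaf.stalk u) := by
      rw [RingHom.mem_ker, hψ]
      exact residue_eq_zero_iff _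
    rw [hmax] at h3
    exact (h2.symm.trans h3.symm).trans h1
  haveI : FaithfulSMul (Y.presheaf.stalk y) (Y.residueField u) :=
    (faithfulSMul_iff_algebraMap_injective _ _).2 ((RingHom.injective_iff_ker_eq_bot _).2 hker)
  refine IsFractionRing.of_field _ _ fun z => ?_
  obtain ⟨s, rfl⟩ := IsLocalRing.residue_surjective (R := Y.presheaf.stalk u) z
  letI := Y.presheaf.algebra_section_stalk (⟨u, hu⟩ : V)
  haveI := hV.isLocalization_stalk ⟨u, hu⟩
  obtain ⟨⟨n, d⟩, hd⟩ := IsLocalization.surj (M := (hV.primeIdealOf ⟨u, hu⟩).asIdeal.primeCompl) s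
  refine ⟨Y.presheaf.germ V y hy n, Y.presheaf.germ V y hy (d : Γ(Y, V)), ?_⟩
  refine Eq.trans ?_ (congrArg₂ (· / ·) (hψ n) (hψ d)).symm
  have hne0 : (Y.residue u).hom (Y.presheaf.germ V u hu (d : Γ(Y, V))) ≠ 0 := fun h0 =>
    d.2 ((IsLocalization.AtPrime.to_map_mem_maximal_iff (Y.presheaf.stalk u) _ _).1 ((residue_eq_zero_iff _).1 h0))
  rw [eq_div_iff hne0]
  exact (map_mul (Y.residue u).hom _ _).symm.trans (congrArg _ hd)

theorem main {X S : Scheme.{u}} (f : X ⟶ S) {r : ℕ} (φ : Fin r → Γ(X, ⊤))
    (C : Type) [Group C] [Finite C] (hC : ∀ s : S, IsUnit ((Nat.card C : ℕ) : S.residueField s))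
    (P : FEt.Cat (SGA1t.compl φ : Scheme.{u})) (ρ : C →* Aut P) (hP : SGA1t.IsPrincipal C P ρ) :
    SGA1t.IsRelTame f φ P := by
  intro Ω _ _ σ _ y _ hdvr w h hne
  haveI := hdvr
  haveI : Etale P.hom := P.prop.2
  let q := pullback.snd (P.hom ≫ (SGA1t.compl φ).ι) (pullback.fst f σ)
  haveI : Etale q := inferInstance
  let a : C → (pullback (P.hom ≫ (SGA1t.compl φ).ι) (pullback.fst f σ) ⟶
      pullback (P.hom ≫ (SGA1t.compl φ).ι) (pullback.fst f σ)) := fun c =>
    pullback.lift (pullback.fst _ _ ≫ (ρ c).hom.left) (pullback.snd _ _) (by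
      rw [Category.assoc, ← Category.assoc (ρ c).hom.left, MorphismProperty.Over.w (ρ c).hom]
      exact pullback.condition)
  have hone : a 1 = 𝟙 _ := by
    apply pullback.hom_ext
    · simp only [a, pullback.lift_fst, map_one, Category.id_comp]
      exact Category.comp_id _
    · simp only [a, pullback.lift_snd, Category.id_comp]
  have hmul : ∀ c d, a (c * d) = a d ≫ a c := fun c d => by
    apply pullback.hom_ext
    · simp only [a, pullback.lift_fst, Category.assoc, pullback.lift_fst_assoc, map_mul]
      rfl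
    · simp only [a, pullback.lift_snd, Category.assoc]
  have htr : ∀ (K : Type u) [Field K] [IsAlgClosed K] (s t : Spec (CommRingCat.of K) ⟶
      pullback (P.hom ≫ (SGA1t.compl φ).ι) (pullback.fst f σ)), s ≫ q = t ≫ q → ∃ c, s ≫ a c = t := by
    intro K _ _ s t hst
    have hξ : (t ≫ pullback.fst _ _) ≫ P.hom = (s ≫ pullback.fst _ _) ≫ P.hom := by
      rw [← cancel_mono (SGA1t.compl φ).ι]
      simp only [Category.assoc, pullback.condition]
      exact ((Category.assoc _ _ _).symm.trans (congrArg (· ≫ pullback.fst f σ) hst.symm)).trans (Category.assoc _ _ _)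
    obtain ⟨c, hc, -⟩ := hP.2 K _ ⟨s ≫ pullback.fst _ _, rfl⟩ ⟨t ≫ pullback.fst _ _, hξ⟩
    refine ⟨c, pullback.hom_ext ?_ ?_⟩
    · simp only [a, Category.assoc, pullback.lift_fst]
      exact (Category.assoc _ _ _).symm.trans (congrArg Subtype.val hc)
    · simp only [a, Category.assoc, pullback.lift_snd]
      exact hst
  obtain ⟨hfin, hgal, hdvd⟩ := H9Ram.GaloisCoverResidue.galois_and_dvd q a hone hmul
    (fun c => pullback.lift_snd _ _ _) htr w
  letI : Algebra ((pullback f σ).presheaf.stalk y) ((pullback f σ).residueField (q.base w)) :=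
    (((pullback f σ).residue _).hom.comp ((pullback f σ).presheaf.stalkSpecializes h).hom).toAlgebra
  haveI := isFractionRing_residueField y (q.base w) h hne
  letI : Algebra ((pullback f σ).residueField (q.base w))
      ((pullback (P.hom ≫ (SGA1t.compl φ).ι) (pullback.fst f σ)).residueField w) := (q.residueFieldMap w).hom.toAlgebra
  refine H9Ram.TameGalois.tame_of_galois (A := (pullback f σ).presheaf.stalk y)
    (K := (pullback f σ).residueField (q.base w))
    (L := (pullback (P.hom ≫ (SGA1t.compl φ).ι) (pullback.fst f σ)).residueField w) ?_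
  have hΩ : IsUnit ((Nat.card C : ℕ) : Ω) := by
    obtain ⟨χ, -⟩ := H9Ram.GaloisCoverResidue.exists_residue_factor σ rfl
    have := (hC (σ.base (closedPoint Ω))).map χ.hom
    rwa [map_natCast] at this
  let g : Ω →+* ResidueField ((pullback f σ).presheaf.stalk y) := (IsLocalRing.residue _).comp
    (((pullback f σ).presheaf.germ ⊤ y trivial).hom.comp
      ((pullback.snd f σ).appTop.hom.comp (Scheme.ΓSpecIso (CommRingCat.of Ω)).inv.hom))
  obtain ⟨c, hc⟩ := hdvd
  have hu := hΩ.map g
  rw [map_natCast, hc, Nat.cast_mul] at hu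
  exact (isUnit_of_mul_isUnit_left hu).ne_zero

end Groth.Agent.H15Site.TamePrincipal
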